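import Groth.Agent.Lib.Twist.QCoh
import Groth.Agent.Lib.ProjSpace.Basic
import Groth.Prelude.Def_LefPen

/-!
# The support of the ideal sheaf of a hypersurface
-/

universe u

open CategoryTheory CategoryTheory.Limits AlgebraicGeometry TopologicalSpace

namespace Groth.Agent.ProjDim18

attribute [local instance] MvPolynomial.gradedAlgebra

variable {k : Type u} [Field k] {r d : ℕ} (G : LefPen.Form r k d)

local notation "PS" => CohB1.ProjSpace r k
local notation "GR" => CohB1.polyGrading r k

theorem isAffineOpen_chart (i : Fin (r + 1)) : IsAffineOpen (LefPen.chart r k i) :=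
  Proj.isAffineOpen_basicOpen GR _ (LefPen.X_mem r k i) Nat.one_pos

theorem basicOpen_dehom (i : Fin (r + 1)) :
    (PS).basicOpen (LefPen.dehom G i) = LefPen.chart r k i ⊓ Proj.basicOpen GR G.1 := by
  refine (Twist.basicOpen_awayToSection GR Nat.one_pos (LefPen.X_mem r k i)
    (by rw [smul_eq_mul, mul_one]; exact G.2)).trans ?_
  exact Proj.basicOpen_mul GR _ _

/-- The closed set of zeros of `G`. -/
noncomputable def hypZero : Closeds ↥(PS) :=
  ⟨(SetLike.coe (show (PS).Opens from Proj.basicOpen GR G.1))ᶜ,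
    (show (PS).Opens from Proj.basicOpen GR G.1).isOpen.isClosed_compl⟩

theorem le_support_hypIdeal : hypZero G ≤ (LefPen.hypIdeal G).support := by
  intro x hx
  obtain ⟨i, hi⟩ := ProjSpace.exists_mem_chart r k x
  have hxi : x ∈ LefPen.chart r k i := by
    rw [show LefPen.chart r k i = (ProjSpace.chart r k i).opensRange from
      (ProjSpace.opensRange_chart r k i).symm]
    exact hi
  let U : (PS).affineOpens := ⟨_, isAffineOpen_chart i⟩
  show x ∈ (LefPen.hypIdeal G).support
  rw [Scheme.IdealSheafData.mem_support_iff_of_mem (U := U) hxi, Scheme.mem_zeroLocus_iff]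
  intro a ha hxa
  have h1 : a ∈ LefPen.hypFamily G U := Scheme.IdealSheafData.ideal_ofIdeals_le _ U ha
  rw [LefPen.hypFamily, Submodule.mem_iInf] at h1
  obtain ⟨c, hc⟩ := Ideal.mem_span_singleton.1 (Ideal.mem_comap.1 (h1 i))
  have h2 : x ∈ (PS).basicOpen (((PS).presheaf.map
      (homOfLE (inf_le_left : U.1 ⊓ LefPen.chart r k i ≤ U.1)).op).hom a) := by
    rw [Scheme.basicOpen_res]
    exact ⟨⟨hxi, hxi⟩, hxa⟩
  rw [hc, Scheme.basicOpen_mul, Scheme.basicOpen_res, basicOpen_dehom] at h2
  exact hx h2.1.2.2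

theorem support_hypIdeal_le : (LefPen.hypIdeal G).support ≤ hypZero G := by
  haveI : IsProper (CohB1.ProjSpace.toSpec r k) := ProjSpace.isProper_toSpec r k
  haveI : (PS).IsSeparated := by
    constructor
    rw [← terminal.comp_from (CohB1.ProjSpace.toSpec r k)]
    infer_instance
  haveI : LocallyOfFiniteType (CohB1.ProjSpace.toSpec r k) := inferInstance
  haveI : IsLocallyNoetherian (PS) := LocallyOfFiniteType.isLocallyNoetherian (CohB1.ProjSpace.toSpec r k)
  let I := Scheme.IdealSheafData.vanishingIdeal (hypZero G)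
  have hrad : ∀ i, I.ideal ⟨_, isAffineOpen_chart i⟩ ≤ (Ideal.span {LefPen.dehom G i}).radical := by
    intro i a ha
    rw [← PrimeSpectrum.vanishingIdeal_zeroLocus_eq_radical, PrimeSpectrum.zeroLocus_span]
    refine (PrimeSpectrum.mem_vanishingIdeal _ _).2 fun p hp => ?_
    have ha' : a ∈ PrimeSpectrum.vanishingIdeal ((isAffineOpen_chart i).fromSpec ⁻¹' (hypZero G : Set ↥(PS))) := ha
    refine (PrimeSpectrum.mem_vanishingIdeal _ _).1 ha' p fun hG => ?_
    have hpb : p ∈ (isAffineOpen_chart i).fromSpec ⁻¹ᵁ (PS).basicOpen (LefPen.dehom G i) := by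
      show (isAffineOpen_chart i).fromSpec p ∈ (PS).basicOpen (LefPen.dehom G i)
      rw [basicOpen_dehom]
      exact ⟨(isAffineOpen_chart i).range_fromSpec.le ⟨p, rfl⟩, hG⟩
    rw [(isAffineOpen_chart i).fromSpec_preimage_basicOpen] at hpb
    exact hpb (hp rfl)
  have hN : ∀ i, ∃ N, (I.ideal ⟨_, isAffineOpen_chart i⟩) ^ N ≤ Ideal.span {LefPen.dehom G i} := fun i => by
    haveI : IsNoetherianRing Γ(PS, LefPen.chart r k i) :=
      IsLocallyNoetherian.component_noetherian ⟨_, isAffineOpen_chart i⟩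
    exact Ideal.exists_pow_le_of_le_radical_of_fg (hrad i) (IsNoetherian.noetherian _)
  choose N hN using hN
  let M := ∑ i, N i
  have hle : I ^ (M + 1) ≤ LefPen.hypIdeal G := by
    refine Scheme.IdealSheafData.le_ofIdeals_iff.2 fun U => le_iInf fun i => ?_
    let V : (PS).affineOpens := ⟨U.1 ⊓ LefPen.chart r k i, U.2.inf (isAffineOpen_chart i)⟩
    let D : (PS).affineOpens := ⟨_, isAffineOpen_chart i⟩
    refine ((I ^ (M + 1)).ideal_le_comap_ideal (U := V) (V := U) (inf_le_left : U.1 ⊓ LefPen.chart r k i ≤ U.1)).trans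
      (Ideal.comap_mono ?_)
    rw [← (I ^ (M + 1)).map_ideal (U := V) (V := D) (inf_le_right : U.1 ⊓ LefPen.chart r k i ≤ LefPen.chart r k i), Ideal.map_le_iff_le_comap]
    refine le_trans ?_ (Ideal.map_le_iff_le_comap.1 ((Ideal.map_span _ {LefPen.dehom G i}).trans (by rw [Set.image_singleton]; rfl)).le)
    rw [Scheme.IdealSheafData.ideal_pow, Pi.pow_apply]
    exact (Ideal.pow_le_pow_right ((Finset.single_le_sum (fun j _ => Nat.zero_le (N j))
      (Finset.mem_univ i)).trans (Nat.le_succ M))).trans (hN i)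
  refine (Scheme.IdealSheafData.support_antitone hle).trans ?_
  rw [Scheme.IdealSheafData.support_pow_succ]
  exact le_of_eq (Closeds.ext (Scheme.IdealSheafData.coe_support_vanishingIdeal _))

theorem support_hypIdeal : (LefPen.hypIdeal G).support = hypZero G :=
  le_antisymm (support_hypIdeal_le G) (le_support_hypIdeal G)

theorem mem_hypZero_iff (x : ↥(PS)) :
    x ∈ hypZero G ↔ G.1 ∈ (x : ProjectiveSpectrum GR).asHomogeneousIdeal :=
  not_not

theorem support_ciIdeal {ι : Type} {a : ι → ℕ} (F : ∀ j, LefPen.Form r k (a j)) :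
    ((LefPen.ciIdeal F).support : Set ↥(PS)) =
      ProjectiveSpectrum.zeroLocus GR (Set.range fun j => (F j).1) := by
  rw [LefPen.ciIdeal, Scheme.IdealSheafData.support_iSup]
  ext x
  simp only [support_hypIdeal, Closeds.coe_iInf, Set.mem_iInter, SetLike.mem_coe, mem_hypZero_iff]
  exact ⟨fun h => by rintro _ ⟨j, rfl⟩; exact h j, fun h j => h ⟨j, rfl⟩⟩

end Groth.Agent.ProjDim18
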