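import Groth.Agent.Lib.ProjDim18.Basic
import Groth.Agent.Lib.H12.Dim
import Groth.Prelude.Def_CohB1
import Mathlib.AlgebraicGeometry.Properties

/-!
# Intersections in projective space
-/

universe u

open MvPolynomial Order AlgebraicGeometry

namespace Groth.Agent.ProjDim18

attribute [local instance] MvPolynomial.gradedAlgebra

variable (k : Type u) [Field k] (n : ℕ)

local notation "PP" => ProjectiveSpectrum (CohB1.polyGrading n k)
local notation "R" => MvPolynomial (Fin (n + 1)) k

instance : T0Space PP := inferInstanceAs (T0Space ↥(CohB1.ProjSpace n k))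
instance : QuasiSober PP := inferInstanceAs (QuasiSober ↥(CohB1.ProjSpace n k))

theorem mem_of_le {X : Set PP} (hX : IsClosed X) {x y : PP} (hx : x ∈ X) (h : x ≤ y) : y ∈ X :=
  closure_minimal (Set.singleton_subset_iff.2 hx) hX ((ProjectiveSpectrum.le_iff_mem_closure (CohB1.polyGrading n k) x y).1 h)

theorem krullDim_closed (X : Set PP) (hX : IsClosed X) :
    topologicalKrullDim ↥X = Order.krullDim {x : PP // x ∈ X} := by
  haveI : QuasiSober ↥X := hX.isClosedEmbedding_subtypeVal.quasiSober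
  rw [Groth.Agent.H12.topologicalKrullDim_eq_krullDim_specializationOrder]
  let e : @OrderIso ↥X {x : PP // x ∈ X}ᵒᵈ (specializationOrder ↥X).toLE _ :=
    { toFun := fun a => OrderDual.toDual ⟨a.1, a.2⟩
      invFun := fun a => ⟨(OrderDual.ofDual a).1, (OrderDual.ofDual a).2⟩
      left_inv := fun _ => rfl
      right_inv := fun _ => rfl
      map_rel_iff' := fun {a b} => by
        show b.1 ≤ a.1 ↔ b ⤳ a
        rw [subtype_specializes_iff, ProjectiveSpectrum.le_iff_mem_closure,
          specializes_iff_mem_closure] }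
  exact (@Order.krullDim_eq_of_orderIso _ _ (specializationOrder ↥X).toPreorder _ e).trans (Order.krullDim_orderDual (α := {x : PP // x ∈ X}))

theorem coheight_subtype {X : Set PP} (hX : IsClosed X) (x : {x : PP // x ∈ X}) :
    Order.coheight x = Order.coheight x.1 :=
  Order.coheight_eq_of_strictMono _ (Subtype.strictMono_coe _)
    (fun a b hab => ⟨⟨b, mem_of_le k n hX a.2 hab.le⟩, hab, rfl⟩) x

theorem coheight_le_dim {X : Set PP} (hX : IsClosed X) {x : PP} (hx : x ∈ X) :
    (Order.coheight x : WithBot ℕ∞) ≤ topologicalKrullDim ↥X := by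
  rw [krullDim_closed k n X hX, ← coheight_subtype k n hX ⟨x, hx⟩]
  exact Order.coheight_le_krullDim _

theorem exists_coheight_ge {X : Set PP} (hX : IsClosed X) {r : ℕ}
    (h : (r : WithBot ℕ∞) ≤ topologicalKrullDim ↥X) : ∃ x ∈ X, (r : ℕ∞) ≤ Order.coheight x := by
  rw [krullDim_closed k n X hX, Order.le_krullDim_iff] at h
  obtain ⟨l, hl⟩ := h
  refine ⟨l.head.1, l.head.2, ?_⟩
  rw [← coheight_subtype k n hX l.head]
  exact hl ▸ Order.length_le_coheight_head

/-- Dimension of a minimal prime over a homogeneous ideal above a prime. -/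
theorem exists_point_le_irr (J : Ideal R) (hJ : J.IsHomogeneous (homogeneousSubmodule (Fin (n + 1)) k))
    (hle : J ≤ ProjDeg17.irr k n) : ∃ Q ∈ J.minimalPrimes, Q ≤ ProjDeg17.irr k n :=
  haveI := (ProjDeg17.isMaximal_irr k n).isPrime
  Ideal.exists_minimalPrimes_le hle

theorem inter_dim_ge {r s : ℕ} (X Y : Set PP) (hX : IsClosed X) (hY : IsClosed Y)
    (hXr : topologicalKrullDim ↥X = r) (hYs : topologicalKrullDim ↥Y = s) (hrs : n ≤ r + s) :
    (X ∩ Y).Nonempty ∧ ((r + s : ℕ) : WithBot ℕ∞) ≤ topologicalKrullDim ↥(X ∩ Y) + (n : WithBot ℕ∞) := by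
  obtain ⟨x, hx, hxr⟩ := exists_coheight_ge k n hX hXr.ge
  obtain ⟨y, hy, hys⟩ := exists_coheight_ge k n hY hYs.ge
  have hex : Order.coheight x = (r : ℕ∞) := le_antisymm (by
    have := (coheight_le_dim k n hX hx).trans hXr.le
    exact_mod_cast this) hxr
  have hey : Order.coheight y = (s : ℕ∞) := le_antisymm (by
    have := (coheight_le_dim k n hY hy).trans hYs.le
    exact_mod_cast this) hys
  haveI := x.isPrime
  haveI := y.isPrime
  have hp : ringKrullDim (R ⧸ x.asHomogeneousIdeal.toIdeal) = ((r + 1 : ℕ) : WithBot ℕ∞) := by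
    rw [ringKrullDim_quotient_eq k n x, hex]; rfl
  have hq : ringKrullDim (R ⧸ y.asHomogeneousIdeal.toIdeal) = ((s + 1 : ℕ) : WithBot ℕ∞) := by
    rw [ringKrullDim_quotient_eq k n y, hey]; rfl
  have hJ : (x.asHomogeneousIdeal.toIdeal ⊔ y.asHomogeneousIdeal.toIdeal).IsHomogeneous
      (homogeneousSubmodule (Fin (n + 1)) k) :=
    Ideal.IsHomogeneous.sup x.asHomogeneousIdeal.isHomogeneous y.asHomogeneousIdeal.isHomogeneous
  obtain ⟨Q, hQ, -⟩ := exists_point_le_irr k n _ hJ (sup_le (le_irr k n x) (le_irr k n y))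
  haveI := hQ.1.1
  let e : MvPolynomial (ULift.{u} (Fin (n + 1))) k ≃ₐ[k] R := MvPolynomial.renameEquiv k Equiv.ulift
  have hmap : ∀ I : Ideal R, ringKrullDim (MvPolynomial (ULift.{u} (Fin (n + 1))) k ⧸ I.comap e) =
      ringKrullDim (R ⧸ I) := fun I =>
    ringKrullDim_eq_of_ringEquiv (Ideal.quotientEquiv (I.comap e) I e.toRingEquiv
      (Ideal.map_comap_of_surjective e.toRingEquiv.toRingHom e.surjective I).symm)
  have hmin : Q.comap e ∈
      (x.asHomogeneousIdeal.toIdeal.comap e ⊔ y.asHomogeneousIdeal.toIdeal.comap e).minimalPrimes := by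
    refine ⟨⟨Ideal.IsPrime.comap e, sup_le (Ideal.comap_mono (le_sup_left.trans hQ.1.2))
      (Ideal.comap_mono (le_sup_right.trans hQ.1.2))⟩, fun Q' hQ' hle => ?_⟩
    have hle2 : Q'.comap e.symm ≤ Q := fun a ha => by
      have := hle ha
      simpa using this
    have h2 : Q ≤ Q'.comap e.symm := by
      haveI := hQ'.1
      refine hQ.2 ⟨Ideal.IsPrime.comap e.symm, sup_le (fun a ha => ?_) (fun a ha => ?_)⟩ hle2
      · exact hQ'.2 (Ideal.mem_sup_left (show e (e.symm a) ∈ x.asHomogeneousIdeal.toIdeal by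
          rwa [e.apply_symm_apply]))
      · exact hQ'.2 (Ideal.mem_sup_right (show e (e.symm a) ∈ y.asHomogeneousIdeal.toIdeal by
          rwa [e.apply_symm_apply]))
    intro a ha
    have := h2 (show e a ∈ Q from ha)
    simpa using this
  have key := DimInter18.add_le_of_minimal k _ _ _ hmin (r + 1) (s + 1) (by rw [hmap, hp]) (by rw [hmap, hq])
  rw [hmap, Fintype.card_ulift, Fintype.card_fin] at key
  have hco := ringKrullDim_quotient_eq_coheight k n ⟨Q, inferInstance⟩
  obtain ⟨m, hm⟩ := ENat.ne_top_iff_exists.1 (VarDim.coheight_lt_top' k R ⟨Q, inferInstance⟩).ne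
  rw [← hm] at hco
  rw [show ringKrullDim (R ⧸ Q) = _ from hco] at key
  have hkey : r + s + 2 ≤ m + (n + 1) := by
    have : ((r + 1 + (s + 1) : ℕ) : WithBot ℕ∞) ≤ ((m + (n + 1) : ℕ) : WithBot ℕ∞) := by
      push_cast at key ⊢
      exact key
    have := Nat.cast_le.1 this
    omega
  have hpos : (1 : WithBot ℕ∞) ≤ ringKrullDim (R ⧸ Q) := by
    rw [show ringKrullDim (R ⧸ Q) = _ from hco]
    have : 1 ≤ m := by omega
    exact_mod_cast this
  let z : PP := mkPt k n Q inferInstance
    (ProjDeg17.isHomogeneous_of_mem_minimalPrimes hJ hQ) (not_irr_le_of_one_le k n hpos)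
  have hz : z ∈ X ∩ Y :=
    ⟨mem_of_le k n hX hx (show x ≤ z from le_sup_left.trans hQ.1.2),
     mem_of_le k n hY hy (show y ≤ z from le_sup_right.trans hQ.1.2)⟩
  refine ⟨⟨z, hz⟩, ?_⟩
  have hzc : Order.coheight z + 1 = (m : ℕ∞) := (coheight_add_one k n z).trans hm.symm
  refine le_trans ?_ (add_le_add (coheight_le_dim k n (hX.inter hY) hz) le_rfl)
  obtain ⟨c, hc⟩ := ENat.ne_top_iff_exists.1 (show Order.coheight z ≠ ⊤ from fun h => by
    rw [h, top_add] at hzc; exact ENat.top_ne_coe m hzc)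
  rw [← hc] at hzc ⊢
  have hc1 : c + 1 = m := by exact_mod_cast hzc
  have : r + s ≤ c + n := by omega
  exact_mod_cast this

theorem codim_components_inter_zeroLocus {r : ℕ} (X : Set PP) (hXc : IsClosed X) (hXi : IsIrreducible X)
    (f : Fin r → R) (d : Fin r → ℕ) (hf : ∀ i, (f i).IsHomogeneous (d i)) (hd : ∀ i, 0 < d i) :
    (∀ C ∈ irreducibleComponents ↥(X ∩ ProjectiveSpectrum.zeroLocus (CohB1.polyGrading n k) (Set.range f)),
        topologicalKrullDim ↥X ≤ topologicalKrullDim ↥C + (r : WithBot ℕ∞)) ∧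
      ((r : WithBot ℕ∞) ≤ topologicalKrullDim ↥X →
        (X ∩ ProjectiveSpectrum.zeroLocus (CohB1.polyGrading n k) (Set.range f)).Nonempty) := by
  obtain ⟨x, hx⟩ := QuasiSober.sober hXi hXc
  haveI := x.isPrime
  have hxX : x ∈ X := hx.mem
  obtain ⟨a, ha⟩ := ENat.ne_top_iff_exists.1 (show Order.coheight x ≠ ⊤ from fun h => by
    have := (coheight_add_one k n x)
    rw [h, top_add] at this
    exact (VarDim.coheight_lt_top' k R (conePt k n x)).ne this.symm)
  have hdimX : topologicalKrullDim ↥X = (a : WithBot ℕ∞) := by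
    refine le_antisymm ?_ (le_trans ?_ (coheight_le_dim k n hXc hxX))
    · rw [krullDim_closed k n X hXc, Order.krullDim_eq_iSup_coheight]
      refine iSup_le fun y => ?_
      rw [coheight_subtype k n hXc y]
      have hxy : x ≤ y.1 := (ProjectiveSpectrum.le_iff_mem_closure (CohB1.polyGrading n k) x y.1).2 (hx.def.symm ▸ y.2)
      have h1 := Order.coheight_anti hxy
      rw [← ha] at h1
      exact_mod_cast h1
    · rw [← ha]; rfl
  let J := x.asHomogeneousIdeal.toIdeal ⊔ Ideal.span (Set.range f)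
  have hJ : J.IsHomogeneous (homogeneousSubmodule (Fin (n + 1)) k) :=
    Ideal.IsHomogeneous.sup x.asHomogeneousIdeal.isHomogeneous (Ideal.homogeneous_span _ _ (by
      rintro _ ⟨i, rfl⟩
      exact ⟨d i, (mem_homogeneousSubmodule _ _).2 (hf i)⟩))
  -- the height bound
  have hbound : ∀ Q ∈ J.minimalPrimes, ∀ m : ℕ,
      ringKrullDim (R ⧸ Q) = (m : WithBot ℕ∞) → a + 1 ≤ m + r := by
    intro Q hQ m hm
    haveI := hQ.1.1
    let p := x.asHomogeneousIdeal.toIdeal
    have hpQ : p ≤ Q := le_sup_left.trans hQ.1.2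
    let q : Ideal (R ⧸ p) := Q.map (Ideal.Quotient.mk p)
    haveI : q.IsPrime := Ideal.map_isPrime_of_surjective Ideal.Quotient.mk_surjective
      (by rw [Ideal.mk_ker]; exact hpQ)
    classical
    have hq : q ∈ (Ideal.span ((Finset.univ.image fun i => Ideal.Quotient.mk p (f i) : Finset (R ⧸ p)) :
        Set (R ⧸ p))).minimalPrimes := by
      rw [Finset.coe_image, Finset.coe_univ, Set.image_univ, Set.range_comp' (Ideal.Quotient.mk p) f,
        ← Ideal.map_span]
      refine ⟨⟨inferInstance, Ideal.map_mono (le_sup_right.trans hQ.1.2)⟩, fun q' hq' hle => ?_⟩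
      haveI := hq'.1
      refine Ideal.map_le_iff_le_comap.2 (hQ.2 ⟨inferInstance, sup_le ?_ ?_⟩ ?_)
      · exact fun b hb => by
          show _ ∈ q'
          rw [Ideal.Quotient.eq_zero_iff_mem.2 hb]; exact q'.zero_mem
      · exact Ideal.map_le_iff_le_comap.1 hq'.2
      · refine (Ideal.comap_mono hle).trans (le_of_eq ?_)
        rw [Ideal.comap_map_of_surjective _ Ideal.Quotient.mk_surjective, ← RingHom.ker_eq_comap_bot,
          Ideal.mk_ker, sup_eq_left.2 hpQ]
    have hh : (⟨q, inferInstance⟩ : PrimeSpectrum (R ⧸ p)).asIdeal.height ≤ (r : ℕ∞) :=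
      (Ideal.height_le_card_of_mem_minimalPrimes_span_finset hq).trans
        (by exact_mod_cast Finset.card_image_le.trans (Finset.card_fin r).le)
    rw [PrimeSpectrum.height_eq_orderHeight] at hh
    have hsum := VarDim.height_add_coheight k (R ⧸ p) ⟨q, inferInstance⟩
    rw [show ringKrullDim (R ⧸ p) = (((a + 1 : ℕ) : ℕ∞) : WithBot ℕ∞) by
      rw [ringKrullDim_quotient_eq k n x, ← ha]; rfl, WithBot.coe_inj] at hsum
    have hcoq : (Order.coheight (⟨q, inferInstance⟩ : PrimeSpectrum (R ⧸ p)) : WithBot ℕ∞) = (m : WithBot ℕ∞) := by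
      rw [VarDim.coheight_eq_tdeg k (R ⧸ p) ⟨q, inferInstance⟩, ← hm]
      refine Eq.trans ?_ (ringKrullDim_eq_of_ringEquiv (DoubleQuot.quotQuotEquivQuotOfLE hpQ))
      exact (VarDim.ringKrullDim_eq_tdeg k _).symm
    have hcoq' : Order.coheight (⟨q, inferInstance⟩ : PrimeSpectrum (R ⧸ p)) = (m : ℕ∞) :=
      WithBot.coe_injective hcoq
    rw [hcoq'] at hsum
    have h2 : ((a + 1 : ℕ) : ℕ∞) ≤ (r : ℕ∞) + m := hsum ▸ add_le_add hh le_rfl
    rw [add_comm m r]
    exact_mod_cast h2
  constructor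
  · intro C hC
    obtain ⟨z, hzC, hzmax⟩ := DimInter18.exists_maximal_point
      (hXc.inter (ProjectiveSpectrum.isClosed_zeroLocus _ _)) hC
    haveI := z.1.isPrime
    have hxz : x ≤ z.1 := (ProjectiveSpectrum.le_iff_mem_closure (CohB1.polyGrading n k) x z.1).2 (hx.def.symm ▸ z.2.1)
    obtain ⟨Q, hQ, hQz⟩ := Ideal.exists_minimalPrimes_le (I := J)
      (J := z.1.asHomogeneousIdeal.toIdeal) (sup_le hxz (Ideal.span_le.2 z.2.2))
    let w : PP := mkPt k n Q hQ.1.1 (ProjDeg17.isHomogeneous_of_mem_minimalPrimes hJ hQ)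
      fun h => not_irr_le k n z.1 (h.trans hQz)
    have hw : w ∈ X ∩ ProjectiveSpectrum.zeroLocus (CohB1.polyGrading n k) (Set.range f) :=
      ⟨mem_of_le k n hXc hxX (show x ≤ w from le_sup_left.trans hQ.1.2),
        fun b hb => le_sup_right.trans hQ.1.2 (Ideal.subset_span hb)⟩
    have hwz : w = z.1 := congrArg Subtype.val (hzmax ⟨w, hw⟩ (specializes_iff_mem_closure.2
      ((ProjectiveSpectrum.le_iff_mem_closure (CohB1.polyGrading n k) w z.1).1 hQz)))
    obtain ⟨m, hm⟩ := ENat.ne_top_iff_exists.1 (show Order.coheight w ≠ ⊤ from fun h => by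
      have := (coheight_add_one k n w)
      rw [h, top_add] at this
      exact (VarDim.coheight_lt_top' k R (conePt k n w)).ne this.symm)
    have hb := hbound Q hQ (m + 1) (by
      rw [show ringKrullDim (R ⧸ Q) = _ from ringKrullDim_quotient_eq k n w, ← hm]; rfl)
    rw [hdimX, DimInter18.dim_subset, hzC, ← hwz]
    refine le_trans ?_ (add_le_add (coheight_le_dim k n isClosed_closure (subset_closure rfl)) le_rfl)
    rw [← hm]
    have : a ≤ m + r := by omega
    exact_mod_cast this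
  · intro hr
    rw [hdimX] at hr
    have hra : r ≤ a := by exact_mod_cast hr
    have hle : J ≤ ProjDeg17.irr k n := sup_le (le_irr k n x) (Ideal.span_le.2 (by
      rintro _ ⟨i, rfl⟩
      show f i ∈ ProjDeg17.irr k n
      rw [ProjDeg17.irr_eq_ker, RingHom.mem_ker, constantCoeff_eq]
      exact (hf i).coeff_eq_zero (by simpa using (hd i).ne)))
    obtain ⟨Q, hQ, -⟩ := exists_point_le_irr k n J hJ hle
    haveI := hQ.1.1
    obtain ⟨m, hm⟩ := ENat.ne_top_iff_exists.1 (VarDim.coheight_lt_top' k R ⟨Q, inferInstance⟩).ne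
    have hmd : ringKrullDim (R ⧸ Q) = (m : WithBot ℕ∞) := by
      rw [show ringKrullDim (R ⧸ Q) = _ from ringKrullDim_quotient_eq_coheight k n ⟨Q, inferInstance⟩, ← hm]
      rfl
    have hb := hbound Q hQ m hmd
    have hpos : (1 : WithBot ℕ∞) ≤ ringKrullDim (R ⧸ Q) := by
      rw [hmd]
      have : 1 ≤ m := by omega
      exact_mod_cast this
    exact ⟨mkPt k n Q inferInstance (ProjDeg17.isHomogeneous_of_mem_minimalPrimes hJ hQ)
        (not_irr_le_of_one_le k n hpos),
      mem_of_le k n hXc hxX (show x ≤ mkPt k n Q _ _ _ from le_sup_left.trans hQ.1.2),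
      fun b hb => le_sup_right.trans hQ.1.2 (Ideal.subset_span hb)⟩

end Groth.Agent.ProjDim18
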