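import Groth.Agent.Lib.DimInter18.Top
import Groth.Agent.Lib.ProjDeg17.LinearForms
import Mathlib.AlgebraicGeometry.ProjectiveSpectrum.Topology

/-!
# Dimensions of closed subsets of projective space and of their affine cones
-/

universe u

open MvPolynomial Order

namespace Groth.Agent.ProjDim18

attribute [local instance] MvPolynomial.gradedAlgebra

variable (k : Type u) [Field k] (n : ℕ)

local notation "GR" => homogeneousSubmodule (Fin (n + 1)) k
local notation "R" => MvPolynomial (Fin (n + 1)) k

/-- The point of the affine space attached to a point of projective space. -/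
noncomputable def conePt (x : ProjectiveSpectrum GR) : PrimeSpectrum R := ⟨x.asHomogeneousIdeal.toIdeal, x.isPrime⟩

theorem conePt_strictMono : StrictMono (conePt k n) := fun _ _ h => h

/-- A homogeneous prime not containing all the variables gives a point of projective space. -/
noncomputable def mkPt (P : Ideal R) (hP : P.IsPrime) (hh : P.IsHomogeneous GR) (hne : ¬ ProjDeg17.irr k n ≤ P) :
    ProjectiveSpectrum GR where
  asHomogeneousIdeal := ⟨P, hh⟩
  isPrime := hP
  not_irrelevant_le h := hne (Ideal.span_le.2 (by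
    rintro _ ⟨i, rfl⟩
    exact h (HomogeneousIdeal.mem_irrelevant_of_mem GR Nat.one_pos
      ((mem_homogeneousSubmodule _ _).2 (isHomogeneous_X k i)))))

theorem not_irr_le (x : ProjectiveSpectrum GR) : ¬ ProjDeg17.irr k n ≤ x.asHomogeneousIdeal.toIdeal :=
  fun h => x.not_irrelevant_le fun a ha => h (by
    rw [ProjDeg17.irr_eq_ker, RingHom.mem_ker]
    have h0 : GradedRing.proj GR 0 a = 0 := (HomogeneousIdeal.mem_irrelevant_iff GR a).1 ha
    rw [GradedRing.proj_apply] at h0
    have h1 : homogeneousComponent 0 a = 0 :=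
      (MvPolynomial.decomposition.decompose'_apply a 0).symm.trans h0
    rwa [homogeneousComponent_zero, C_eq_zero] at h1)

theorem le_irr (x : ProjectiveSpectrum GR) : x.asHomogeneousIdeal.toIdeal ≤ ProjDeg17.irr k n :=
  ProjDeg17.le_irr_of_isHomogeneous x.asHomogeneousIdeal.isHomogeneous x.isPrime.ne_top

theorem lt_irr (x : ProjectiveSpectrum GR) : x.asHomogeneousIdeal.toIdeal < ProjDeg17.irr k n :=
  lt_of_le_not_ge (le_irr k n x) (not_irr_le k n x)

theorem ringKrullDim_quotient_irr : ringKrullDim (R ⧸ ProjDeg17.irr k n) = 0 := by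
  haveI := ProjDeg17.isMaximal_irr k n
  letI := Ideal.Quotient.field (ProjDeg17.irr k n)
  exact ringKrullDim_eq_zero_of_field _

theorem ringKrullDim_quotient_eq_coheight (P : PrimeSpectrum R) :
    ringKrullDim (R ⧸ P.asIdeal) = (Order.coheight P : WithBot ℕ∞) := by
  rw [VarDim.coheight_eq_tdeg k R P, VarDim.ringKrullDim_eq_tdeg k (R ⧸ P.asIdeal)]
  rfl

/-- A homogeneous prime minimal over a homogeneous ideal, of positive dimension, is relevant. -/
theorem not_irr_le_of_one_le {P : Ideal R} [P.IsPrime] (h : (1 : WithBot ℕ∞) ≤ ringKrullDim (R ⧸ P)) :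
    ¬ ProjDeg17.irr k n ≤ P := fun hle => by
  obtain rfl := (ProjDeg17.isMaximal_irr k n).eq_of_le (Ideal.IsPrime.ne_top ‹_›) hle
  rw [ringKrullDim_quotient_irr] at h
  exact absurd h (by decide)

/-- The dimension of a closure in projective space is one less than that of the cone over it. -/
theorem coheight_add_one (x : ProjectiveSpectrum GR) :
    Order.coheight x + 1 = Order.coheight (conePt k n x) := by
  refine le_antisymm ?_ ?_
  · have h := VarDim.height_add_one_le_of_strictMono (α := (ProjectiveSpectrum GR)ᵒᵈ) (β := (PrimeSpectrum R)ᵒᵈ)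
      (fun a => OrderDual.toDual (conePt k n (OrderDual.ofDual a))) (conePt_strictMono k n).dual
      (OrderDual.toDual ⟨ProjDeg17.irr k n, (ProjDeg17.isMaximal_irr k n).isPrime⟩)
      (fun a => lt_irr k n (OrderDual.ofDual a)) (OrderDual.toDual x)
    exact h
  · suffices ∀ (m : ℕ) (y : ProjectiveSpectrum GR), Order.coheight (conePt k n y) = (m : ℕ∞) →
        (m : ℕ∞) ≤ Order.coheight y + 1 by
      obtain ⟨m, hm⟩ := ENat.ne_top_iff_exists.1 (VarDim.coheight_lt_top' k R (conePt k n x)).ne
      exact hm ▸ this m x hm.symm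
    intro m
    induction m using Nat.strong_induction_on with
    | _ m ih =>
      intro y hy
      rcases lt_or_ge m 2 with hm | hm
      · exact le_trans (by exact_mod_cast (Nat.lt_succ_iff.1 hm)) le_add_self
      obtain ⟨_, ⟨i, rfl⟩, hi⟩ := Set.not_subset.1 fun h => not_irr_le k n y (Ideal.span_le.2 h)
      haveI := y.isPrime
      let D := R ⧸ y.asHomogeneousIdeal.toIdeal
      let J := y.asHomogeneousIdeal.toIdeal ⊔ Ideal.span {(X i : R)}
      have hJ : J.IsHomogeneous GR := Ideal.IsHomogeneous.sup y.asHomogeneousIdeal.isHomogeneous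
        (Ideal.homogeneous_span _ _ (by
          rintro _ rfl
          exact ⟨1, (mem_homogeneousSubmodule _ _).2 (isHomogeneous_X k i)⟩))
      obtain ⟨Q, hQ, -⟩ := haveI := (ProjDeg17.isMaximal_irr k n).isPrime
        Ideal.exists_minimalPrimes_le (I := J) (J := ProjDeg17.irr k n)
          (sup_le (le_irr k n y) (Ideal.span_le.2 (Set.singleton_subset_iff.2 (Ideal.subset_span ⟨i, rfl⟩))))
      haveI := hQ.1.1
      let q : Ideal D := Q.map (Ideal.Quotient.mk y.asHomogeneousIdeal.toIdeal)
      have hyQ : y.asHomogeneousIdeal.toIdeal ≤ Q := le_sup_left.trans hQ.1.2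
      haveI : q.IsPrime := Ideal.map_isPrime_of_surjective Ideal.Quotient.mk_surjective
        (by rw [Ideal.mk_ker]; exact hyQ)
      have hq : q ∈ (Ideal.span (({Ideal.Quotient.mk y.asHomogeneousIdeal.toIdeal (X i)} : Finset D) : Set D)).minimalPrimes := by
        rw [Finset.coe_singleton, ← Set.image_singleton, ← Ideal.map_span]
        refine ⟨⟨inferInstance, Ideal.map_mono (le_sup_right.trans hQ.1.2)⟩, fun q' hq' hle => ?_⟩
        haveI := hq'.1
        refine Ideal.map_le_iff_le_comap.2 (hQ.2 ⟨inferInstance, sup_le ?_ ?_⟩ ?_)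
        · exact fun a ha => by
            show _ ∈ q'
            rw [Ideal.Quotient.eq_zero_iff_mem.2 ha]; exact q'.zero_mem
        · exact Ideal.map_le_iff_le_comap.1 hq'.2
        · refine (Ideal.comap_mono hle).trans (le_of_eq ?_)
          rw [Ideal.comap_map_of_surjective _ Ideal.Quotient.mk_surjective, ← RingHom.ker_eq_comap_bot,
            Ideal.mk_ker, sup_eq_left.2 hyQ]
      have hh : (⟨q, inferInstance⟩ : PrimeSpectrum D).asIdeal.height ≤ ((1 : ℕ) : ℕ∞) :=
        (Ideal.height_le_card_of_mem_minimalPrimes_span_finset hq).trans (by simp)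
      rw [PrimeSpectrum.height_eq_orderHeight] at hh
      have hsum := VarDim.height_add_coheight k D ⟨q, inferInstance⟩
      rw [show ringKrullDim D = ((m : ℕ∞) : WithBot ℕ∞) by
        rw [show ringKrullDim D = _ from ringKrullDim_quotient_eq_coheight k n (conePt k n y), hy],
        WithBot.coe_inj] at hsum
      have hcoq : Order.coheight (⟨q, inferInstance⟩ : PrimeSpectrum D) =
          Order.coheight (⟨Q, inferInstance⟩ : PrimeSpectrum R) := by
        apply WithBot.coe_injective
        rw [← ringKrullDim_quotient_eq_coheight k n ⟨Q, inferInstance⟩,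
          VarDim.coheight_eq_tdeg k D ⟨q, inferInstance⟩]
        refine Eq.trans ?_ (ringKrullDim_eq_of_ringEquiv (DoubleQuot.quotQuotEquivQuotOfLE hyQ))
        exact (VarDim.ringKrullDim_eq_tdeg k _).symm
      obtain ⟨m', hm'⟩ := ENat.ne_top_iff_exists.1 (VarDim.coheight_lt_top' k R ⟨Q, inferInstance⟩).ne
      rw [hcoq, ← hm'] at hsum
      have hm1 : m ≤ m' + 1 := by
        have : (m : ℕ∞) ≤ (1 : ℕ∞) + m' := hsum ▸ add_le_add hh le_rfl
        rw [add_comm m' 1]
        exact_mod_cast this
      have hpos : (1 : WithBot ℕ∞) ≤ ringKrullDim (R ⧸ Q) := by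
        rw [show ringKrullDim (R ⧸ Q) = _ from ringKrullDim_quotient_eq_coheight k n ⟨Q, inferInstance⟩, ← hm']
        have : 1 ≤ m' := by omega
        exact_mod_cast this
      let z : ProjectiveSpectrum GR := mkPt k n Q inferInstance
        (ProjDeg17.isHomogeneous_of_mem_minimalPrimes hJ hQ) (not_irr_le_of_one_le k n hpos)
      have hyz : y < z := lt_of_le_of_ne hyQ fun h => hi (by
        have hmem : (X i : R) ∈ z.asHomogeneousIdeal.toIdeal :=
          (le_sup_right.trans hQ.1.2) (Ideal.subset_span rfl)
        rwa [← h] at hmem)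
      have hlt : m' < m := by
        have h1 : Order.coheight (⟨Q, inferInstance⟩ : PrimeSpectrum R) < Order.coheight (conePt k n y) :=
          Order.coheight_strictAnti (show conePt k n y < ⟨Q, inferInstance⟩ from conePt_strictMono k n hyz)
            (VarDim.coheight_lt_top' k R _)
        rw [← hm', hy] at h1
        exact_mod_cast h1
      calc (m : ℕ∞) ≤ (m' : ℕ∞) + 1 := by exact_mod_cast hm1
        _ ≤ Order.coheight z + 1 + 1 := by gcongr; exact ih m' hlt z hm'.symm
        _ ≤ Order.coheight y + 1 := by gcongr; exact Order.coheight_add_one_le hyz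

theorem ringKrullDim_quotient_eq (x : ProjectiveSpectrum GR) :
    ringKrullDim (R ⧸ x.asHomogeneousIdeal.toIdeal) = (Order.coheight x : WithBot ℕ∞) + 1 := by
  rw [show ringKrullDim (R ⧸ x.asHomogeneousIdeal.toIdeal) = _ from
    ringKrullDim_quotient_eq_coheight k n (conePt k n x), ← coheight_add_one k n x]
  rfl

end Groth.Agent.ProjDim18
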